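import Cfsg.Agent.Scn.D

/-! S1904, case II (helper3): `inv_mem` (all involutions lie in `V`) and `caseII`. -/

set_option autoImplicit false
set_option linter.unusedSectionVars false

namespace Cfsg.Agent.Scn

open Subgroup
open scoped commutatorElement

variable {X : Type*} [Group X] [Finite X]

/-- critical subgroup data -/
structure KS (a : MulAut X) (V W Z K : Subgroup X) (w0 : X) : Prop where
  ws : WS a V W
  hX : IsPGroup 2 X
  nK : K.Normal
  chZ : Z.Characteristic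
  KZ : ∀ k ∈ K, ∀ x : X, ⁅k, x⁆ ∈ Z
  CZ : centralizer (K : Set X) ≤ Z
  ZC : Z ≤ centralizer (K : Set X)
  Zc : ∀ a ∈ Z, ∀ b ∈ Z, a * b = b * a
  memW : ∀ w, w ∈ W ↔ w ∈ Z ∧ w ^ 4 = 1
  ZV : ∀ u ∈ Z, u * u = 1 → u ∈ V
  w0W : w0 ∈ W
  w01 : w0 * w0 ≠ 1
  G : ∀ x : X, ∀ w ∈ W, ⁅x, w⁆ * ⁅a x, w⁆ * ⁅a (a x), w⁆ = 1

namespace KS
variable {a : MulAut X} {V W Z K : Subgroup X} {w0 : X} (h : KS a V W Z K w0)
include h

theorem four {c : X} (hc : c ∈ Z) (c2 : c * c ≠ 1) : ∃ n : ℕ, c ^ n ∈ W ∧ c ^ n * c ^ n ≠ 1 := by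
  obtain ⟨n, h1, h2⟩ := exists_pow h.hX 1 (u := c) (by rwa [pow_one, pow_two])
  exact ⟨n, (h.memW _).2 ⟨pow_mem hc n, h1⟩, by rwa [pow_one, pow_two] at h2⟩

theorem invV {t c : X} (ht : t ∈ centralizer (W : Set X)) (hc : c ∈ Z) (e : t * c * t⁻¹ = c⁻¹) :
    c ∈ V := by
  refine h.ZV c hc ?_
  by_contra c2
  obtain ⟨n, h1, h2⟩ := h.four hc c2
  have : t * c ^ n * t⁻¹ = (c ^ n)⁻¹ := by rw [← conj_pow, e, inv_pow]
  rw [← ht _ h1, mul_inv_cancel_right] at this
  exact h2 (mul_eq_one_iff_eq_inv.2 this)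

theorem VW : V ≤ W := fun v hv => by
  obtain ⟨w, hw, rfl⟩ := h.ws.sqW h.w0W h.w01 hv
  exact mul_mem hw hw

theorem stepA {t : X} (ht : t ∈ centralizer (W : Set X)) (t2 : t * t = 1) : t ∈ V := by
  have := h.nK
  have := h.ws.chr
  have := h.ws.vs.chr
  have Vc : ∀ v ∈ V, v ∈ center X := fun v hv => mem_center_iff.2 (h.ws.vs.cen v hv)
  have k1 : ∀ t ∈ centralizer (W : Set X), t * t = 1 → ∀ k ∈ K, ⁅k, t⁆ ∈ center X :=
    fun t ht t2 k hk => Vc _ (h.invV ht (h.KZ k hk t) (inv_comm k t2))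
  have k2 : ∀ t ∈ centralizer (W : Set X), t * t = 1 → ∀ s ∈ centralizer (W : Set X), s * s = 1 →
      s * t * (s * t) ∈ V := fun t ht t2 s hs s2 => by
    have := h.invV ht (h.CZ (three (k1 t ht t2) (k1 s hs s2))) (inv_comm s t2)
    rwa [commutatorElement_def, inv_eq_of_mul_eq_one_right t2, inv_eq_of_mul_eq_one_right s2,
      mul_assoc (s * t)] at this
  have WC : W ≤ centralizer (W : Set X) := fun w hw w' hw' => h.ws.comm _ hw' _ hw
  have k3 : ∀ e ∈ centralizer (W : Set X), e * e ∈ V → ∃ w ∈ W, e * w⁻¹ * (e * w⁻¹) = 1 :=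
    fun e he e2 => by
      obtain ⟨w, hw, e'⟩ := h.ws.sqW h.w0W h.w01 e2
      exact ⟨w, hw, by
        rw [(show Commute w⁻¹ e from he _ (inv_mem hw)).mul_mul_mul_comm, ← e']; group⟩
  let D : Subgroup X :=
    { carrier := {e | e ∈ centralizer (W : Set X) ∧ e * e ∈ V}
      one_mem' := ⟨one_mem _, by rw [one_mul]; exact one_mem _⟩
      inv_mem' := fun {e} he => ⟨inv_mem he.1, by rw [← mul_inv_rev]; exact inv_mem he.2⟩
      mul_mem' := fun {e f} he hf => ⟨mul_mem he.1 hf.1, by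
        obtain ⟨w, hw, e1⟩ := k3 e he.1 he.2
        obtain ⟨w', hw', e2⟩ := k3 f hf.1 hf.2
        have m1 := mul_mem he.1 (WC (inv_mem hw))
        have m2 := mul_mem hf.1 (WC (inv_mem hw'))
        have e3 : e * f = (e * w⁻¹ * (f * w'⁻¹)) * (w * w') := by
          rw [← (show Commute w (f * w'⁻¹) from m2 _ hw).mul_mul_mul_comm]; group
        rw [e3, (show Commute (w * w') (e * w⁻¹ * (f * w'⁻¹)) from
          mul_mem m1 m2 _ (mul_mem hw hw')).mul_mul_mul_comm]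
        exact mul_mem (k2 _ m2 e2 _ m1 e1) (h.ws.sqV _ (mul_mem hw hw'))⟩ }
  have : D.Normal := ⟨fun e he g => ⟨(inferInstance : (centralizer (W : Set X)).Normal).conj_mem _ he.1 g, by
    rw [show g * e * g⁻¹ * (g * e * g⁻¹) = g * (e * e) * g⁻¹ by group]
    exact (inferInstance : V.Normal).conj_mem _ he.2 g⟩⟩
  have hD : D ≤ W := by
    by_contra hn
    obtain ⟨e, he, eW, hx⟩ := exists_cen h.hX hn
    obtain ⟨w, hw, e1⟩ := k3 e he.1 he.2
    have m1 := mul_mem he.1 (WC (inv_mem hw))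
    have : e * w⁻¹ ∈ V := h.ws.vs.star _ e1 fun x => h.invV m1 ((h.memW _).1 (by
      rw [h.ws.Fr _ _ (inv_mem hw)]
      exact mul_mem (hx x) (h.VW (h.ws.FV x (inv_mem hw))))).1 (inv_comm x e1)
    exact eW (by simpa using mul_mem (h.VW this) hw)
  exact h.ws.memV t (hD ⟨ht, by rw [t2]; exact one_mem _⟩) t2

theorem nC {t : X} (ht : t ∉ centralizer (W : Set X)) : a t ∉ centralizer (W : Set X) := fun e => by
  have := h.ws.chr
  exact ht (by simpa using chr_app (inferInstance : (centralizer (W : Set X)).Characteristic) a⁻¹ e)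

theorem invSq {t : X} (ht : t ∉ centralizer (W : Set X)) (t2 : t * t = 1) {u : X} (hu : u ∈ Z)
    (h8 : u * u ∈ W) : ⁅t, u * u⁆ = u * u * (u * u) := by
  have := h.chZ
  have hu' : t * u * t⁻¹ ∈ Z := (inferInstance : Z.Normal).conj_mem u hu t
  have c1 : Commute t (t * u * t⁻¹ * u) := by
    have ti : t⁻¹ = t := inv_eq_of_mul_eq_one_right t2
    change _ = _
    conv_rhs => rw [h.Zc _ hu' _ hu]
    rw [ti]
    simp only [← mul_assoc, t2, one_mul]
    rw [mul_assoc _ t t, t2, mul_one]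
  have c2 : t * u * t⁻¹ * u * (t * u * t⁻¹ * u) = 1 := by
    by_contra hn
    obtain ⟨n, h1, h2⟩ := h.four (mul_mem hu' hu) hn
    exact ht (h.ws.anti h.G h1 h2 (commutatorElement_eq_one_iff_commute.2 (c1.pow_right n)))
  rw [(show Commute u (t * u * t⁻¹) from h.Zc _ hu _ hu').mul_mul_mul_comm] at c2
  have h4 : u * u * (u * u) * (u * u * (u * u)) = 1 := by
    rw [← ((h.memW _).1 h8).2]; simp only [pow_succ, pow_zero, one_mul, mul_assoc]
  calc ⁅t, u * u⁆ = (t * u * t⁻¹ * (t * u * t⁻¹) * (u * u)) * (u * u * (u * u))⁻¹ := by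
        rw [commutatorElement_def]; group
    _ = _ := by rw [c2, one_mul, inv_eq_of_mul_eq_one_right h4]

theorem stepB1 {t : X} (ht : t ∉ centralizer (W : Set X)) (t2 : t * t = 1) : Z ≤ W := by
  intro u hu
  refine (h.memW u).2 ⟨hu, ?_⟩
  by_contra hn
  obtain ⟨n, h1, h2⟩ := exists_pow h.hX 2 (u := u) hn
  have hu' := pow_mem hu n
  generalize u ^ n = y at *
  have h8 : y * y ∈ W := (h.memW _).2 ⟨mul_mem hu' hu', by rw [← pow_two, ← pow_mul]; exact h1⟩
  have := h.G t _ h8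
  rw [h.invSq ht t2 hu' h8, h.invSq (h.nC ht) (by rw [← map_mul, t2, map_one]) hu' h8,
    h.invSq (h.nC (h.nC ht)) (by rw [← map_mul, ← map_mul, t2, map_one, map_one]) hu' h8,
    h.ws.vs.sq _ (h.ws.sqV _ h8), one_mul] at this
  exact h2 (by rw [← this, show 2 ^ 2 = 4 from rfl]; simp only [pow_succ, pow_zero, one_mul, mul_assoc])

theorem CW (hZ : Z ≤ W) : centralizer (W : Set X) ≤ W := by
  have := h.ws.chr
  have hC : (centralizer (W : Set X)).Characteristic := inferInstance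
  generalize hCC : centralizer (W : Set X) = C at hC
  have WC : W ≤ C := hCC ▸ fun w hw w' hw' => h.ws.comm _ hw' _ hw
  have VC : V ≤ C := h.VW.trans WC
  let φ : MulAut C := (a.subgroupMap C).trans (MulEquiv.subgroupCongr (characteristic_iff_map_eq.1 hC a))
  have hφ : ∀ x : C, (φ x : X) = a x := fun _ => rfl
  rcases struct (h.hX.to_subgroup C) (U := V.subgroupOf C)
    (by rw [← h.ws.vs.card]; exact Nat.card_congr (subgroupOfEquivOfLe VC).toEquiv)
    (fun a _ b hb => Subtype.ext (h.ws.vs.cen _ hb _)) (fun a ha => Subtype.ext (h.ws.vs.sq _ ha))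
    (fun t t2 => h.stepA (hCC ▸ t.2) (congrArg Subtype.val t2)) φ (fun u hu u1 w hw => by
      have u1' : (u : X) ≠ 1 := fun e => u1 (Subtype.ext e)
      simp only [Subtype.ext_iff, hφ]
      rw [h.ws.vs.aa (u : X) hu u1']
      exact h.ws.vs.enum _ hu u1' _ hw) with hc | ⟨-, -, hz, -⟩
  · intro c hc'
    refine hZ (h.CZ fun k hk => ?_)
    have : k ∈ C := hCC ▸ fun w hw => (h.ZC ((h.memW w).1 hw).1 k hk).symm
    exact congrArg Subtype.val (hc.is_comm.comm (⟨k, this⟩ : C) ⟨c, hc'⟩)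
  · exact absurd (congrArg Subtype.val (hz ⟨w0, WC h.w0W⟩ (mem_center_iff.2 fun c =>
      Subtype.ext ((show (c : X) ∈ centralizer (W : Set X) from hCC ▸ c.2) _ h.w0W).symm))) h.w01

theorem inv_mem' {t : X} (t2 : t * t = 1) : t ∈ V := by
  by_cases ht : t ∈ centralizer (W : Set X)
  · exact h.stepA ht t2
  have := h.ws.vs.chr
  have hCW := h.CW (h.stepB1 ht t2)
  have hF := fun x => h.ws.FV x h.w0W
  have n1 : ∀ s, s ∉ centralizer (W : Set X) → ⁅s, w0⁆ ≠ 1 := fun s hs e =>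
    hs (h.ws.anti h.G h.w0W h.w01 e)
  have k1 : ∀ s : X, s * s = 1 → ⁅s, w0⁆ ≠ ⁅t, w0⁆ → ⁅s, t⁆ ∈ V := fun s s2 hne => by
    have e : ⁅s, t⁆ = s * t * (s * t) := by
      rw [commutatorElement_def, inv_eq_of_mul_eq_one_right t2, inv_eq_of_mul_eq_one_right s2,
        mul_assoc (s * t)]
    have hc : ⁅s, t⁆ ∈ W := hCW fun w hw => (commutatorElement_eq_one_iff_mul_comm.1 (by
      rw [e, h.ws.Fl _ _ hw, h.ws.vs.sq _ (h.ws.FV _ hw)])).symm
    refine h.ws.memV _ hc ?_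
    by_contra hn
    have := h.ws.anti h.G (x := s * t) hc hn (commutatorElement_eq_one_iff_mul_comm.2 (by rw [e]; group))
    have := commutatorElement_eq_one_iff_mul_comm.2 (this _ h.w0W).symm
    rw [h.ws.Fl _ _ h.w0W, ← h.ws.vs.sq _ (hF t)] at this
    exact hne (mul_right_cancel this)
  have k2 : ∀ s x : X, ⁅s, t⁆ ∈ V → ⁅x, w0⁆ = ⁅s, w0⁆ → ⁅x, t⁆ ∈ V := fun s x hs e => by
    have hw : x * s⁻¹ ∈ W := hCW (h.ws.anti h.G h.w0W h.w01 (by
      rw [h.ws.Fl _ _ h.w0W, e, ← h.ws.Fl _ _ h.w0W, mul_inv_cancel, commutatorElement_one_left]))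
    rw [show ⁅x, t⁆ = x * s⁻¹ * ⁅s, t⁆ * (x * s⁻¹)⁻¹ * ⁅t, x * s⁻¹⁆⁻¹ by
      simp only [commutatorElement_def]; group]
    exact mul_mem ((inferInstance : V.Normal).conj_mem _ hs _) (inv_mem (h.ws.FV t hw))
  have g := h.G t _ h.w0W
  have a1 := n1 _ (h.nC ht)
  have a2 := n1 _ (h.nC (h.nC ht))
  have d1 : ⁅t, w0⁆ ≠ ⁅a t, w0⁆ := fun e => a2 (by rwa [e, h.ws.vs.sq _ (hF _), one_mul] at g)
  have d2 : ⁅a (a t), w0⁆ = ⁅t, w0⁆ * ⁅a t, w0⁆ := by
    rw [← h.ws.vs.sq _ (mul_mem (hF t) (hF (a t)))] at g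
    exact mul_left_cancel g
  refine h.ws.vs.star t t2 fun x => ?_
  rcases four_enum h.ws.vs.card.le h.ws.vs.sq (hF t) (hF (a t)) (n1 t ht) a1 d1 _ (hF x) with e | e | e | e
  · exact k2 1 x (by simp) (by simpa using e)
  · exact k2 t x (by simp) e
  · exact k2 (a t) x (k1 _ (by rw [← map_mul, t2, map_one]) d1.symm) e
  · exact k2 (a (a t)) x (k1 _ (by rw [← map_mul, ← map_mul, t2, map_one, map_one])
      (by rw [d2]; exact fun e => a1 (mul_eq_left.1 e))) (e.trans d2.symm)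

end KS

theorem inv_mem_V (hX : IsPGroup 2 X) (hN : NoE8 X) {A : Subgroup (MulAut X)}
    (hA : ∀ a ∈ A, Odd (orderOf a)) {a : MulAut X} (ha : a ∈ A)
    (hXA : closure {g : X | ∃ φ ∈ A, ∃ x : X, g = x⁻¹ * φ x} = ⊤) {V : Subgroup X} (h : VS a V)
    {t : X} (t2 : t * t = 1) : t ∈ V := by
  obtain ⟨K, hK, h1, h2⟩ := BG.exists_critical hX
  have chZ : (K ⊓ centralizer (K : Set X)).Characteristic :=
    characteristic_iff_le_comap.2 fun ψ x hx => mem_inf.2 ⟨chr_app hK ψ hx.1,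
      chr_app (inferInstance : (centralizer (K : Set X)).Characteristic) ψ hx.2⟩
  have CZ : centralizer (K : Set X) ≤ K ⊓ centralizer (K : Set X) := le_inf h2 le_rfl
  have ZC : K ⊓ centralizer (K : Set X) ≤ centralizer (K : Set X) := inf_le_right
  have Zc : ∀ a ∈ K ⊓ centralizer (K : Set X), ∀ b ∈ K ⊓ centralizer (K : Set X), a * b = b * a :=
    fun a ha b hb => hb.2 a ha.1
  have KZ := fun k hk => (h1 k hk).2
  generalize K ⊓ centralizer (K : Set X) = Z at *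
  have ZV : ∀ u ∈ Z, u * u = 1 → u ∈ V := fun u hu u2 => by
    have := tor_char Zc 2 chZ
    have e : V = tor Z Zc 2 := eq_of_le_of_card_ge
      (fun v hv => ⟨CZ fun k _ => h.cen v hv k, by rw [pow_two, h.sq v hv]⟩)
      ((hN (tor Z Zc 2) inferInstance (fun a ha b hb => Zc _ ha.1 _ hb.1)
        fun a ha => by rw [← pow_two, ha.2]).trans h.card.ge)
    exact e ▸ ⟨hu, by rw [pow_two, u2]⟩
  by_cases hz : ∀ u ∈ Z, u * u = 1
  · have k : ∀ x : X, ∀ k ∈ K, ⁅k, x⁆ ∈ center X := fun x k hk =>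
      mem_center_iff.2 (h.cen _ (ZV _ (KZ k hk x) (hz _ (KZ k hk x))))
    exact h.star t t2 fun x => ZV _ (CZ (three (k t) (k x))) (hz _ (CZ (three (k t) (k x))))
  push Not at hz
  obtain ⟨u, hu, u2⟩ := hz
  obtain ⟨n, e1, e2⟩ := exists_pow hX 1 (u := u) (by rwa [pow_one, pow_two])
  have ws : WS a V (tor Z Zc 4) := ⟨h, tor_char Zc 4 chZ, fun a ha b hb => Zc _ ha.1 _ hb.1,
    fun w hw => ZV _ (mul_mem hw.1 hw.1) (by
      rw [← hw.2]; simp only [pow_succ, pow_zero, one_mul, mul_assoc]), fun w hw => ZV w hw.1⟩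
  exact KS.inv_mem' (K := K) (Z := Z) (w0 := u ^ n) ⟨ws, hX, inferInstance, chZ, KZ, CZ, ZC, Zc,
    fun _ => Iff.rfl, ZV, ⟨pow_mem hu n, e1⟩, by rwa [pow_one, pow_two] at e2,
    fun x w hw => ws.G1 hA ha hXA x hw⟩ t2

theorem caseII (hX : IsPGroup 2 X) (hN : NoE8 X) (hna : ¬ IsMulCommutative X)
    {A : Subgroup (MulAut X)} (hA : ∀ a ∈ A, Odd (orderOf a)) {a : MulAut X} (ha : a ∈ A)
    (hXA : closure {g : X | ∃ φ ∈ A, ∃ x : X, g = x⁻¹ * φ x} = ⊤) {V : Subgroup X} (h : VS a V) :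
    Cfsg.IsSpecial 2 X ∧ Nat.card X = 64 ∧ Nat.card {x : X // orderOf x = 2} = 3 ∧
        ∀ x : X, orderOf x = 2 → x ∈ Subgroup.center X := by
  classical
  have hi : ∀ t : X, t * t = 1 → t ∈ V := fun t => inv_mem_V hX hN hA ha hXA h
  obtain ⟨c1, c2, -, c3, c4⟩ := (struct hX h.card (fun a _ b hb => h.cen b hb a) h.sq hi a
    fun u hu u1 w hw => by rw [h.aa u hu u1]; exact h.enum u hu u1 w hw).resolve_left hna
  have e : V = center X := eq_of_le_of_card_ge (fun v hv => mem_center_iff.2 (h.cen v hv))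
    (c2.trans h.card.symm).le
  have l1 : commutator X ≤ center X := commutator_le.2 fun x _ y _ => c4 x y
  have l2 : center X ≤ commutator X := by
    obtain ⟨⟨u, hu⟩, u1⟩ := (ne_bot_iff_exists_ne_one (H := commutator X)).1
      fun e => hna (PGrp.commutator_eq_bot_iff.1 e)
    have au := chr_app (inferInstance : (commutator X).Characteristic) a hu
    intro w hw
    rcases h.enum u (e ▸ l1 hu) (fun e => u1 (Subtype.ext e)) w (e ▸ hw) with rfl | rfl | rfl | rfl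
    exacts [one_mem _, hu, au, mul_mem hu au]
  have := hX.isNilpotent
  have : Fintype X := Fintype.ofFinite _
  have h1 : (Finset.univ.filter fun x : X => x * x = 1).card = 4 := by
    rw [← h.card]; convert card_filter_mem V (fun x : X => x * x = 1) fun x => ⟨hi x, h.sq x⟩
  have h6 : Nat.card {x : X // orderOf x = 2} + 1 = (Finset.univ.filter fun x : X => x * x = 1).card := by
    convert card_inv (X := X)
  exact ⟨⟨hX, le_antisymm (Solv.frattini_le_of_commutator_le (p := 2) l1 fun x => by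
      rw [pow_two]; exact c3 x) (l2.trans Solv.commutator_le_frattini), le_antisymm l1 l2⟩, c1, by omega,
    fun x hx => e ▸ hi x (by rw [← pow_two, ← hx, pow_orderOf_eq_one])⟩

end Cfsg.Agent.Scn
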