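import Cfsg.Agent.Invol.OddAut
import Cfsg.Agent.S0119
import Cfsg.Agent.S4189
import Cfsg.Agent.Solv.Frattini

/-! 2-groups without normal `E₈` (helper3): `NoE8`, `ext`, `mem_of`, the Gauss-sum identity `sq_sum` for groups with
central squares and commutators, and the special case `caseI` of S1904. -/

set_option autoImplicit false
set_option linter.unusedSectionVars false

namespace Cfsg.Agent.Scn

open Subgroup
open scoped commutatorElement

variable {X : Type*} [Group X] [Finite X]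

/-- no normal elementary abelian subgroup of order `8` -/
def NoE8 (X : Type*) [Group X] : Prop :=
  ∀ E : Subgroup X, E.Normal → (∀ a ∈ E, ∀ b ∈ E, a * b = b * a) → (∀ a ∈ E, a * a = 1) →
    Nat.card E ≤ 4

theorem card_lt {K L : Subgroup X} (h : K < L) : Nat.card K < Nat.card L :=
  lt_of_le_of_ne (card_le_of_le h.le) fun e => h.ne (eq_of_le_of_card_ge h.le e.ge)

theorem ext {U : Subgroup X} [hU : U.Normal] (hc : ∀ a ∈ U, ∀ b ∈ U, a * b = b * a)
    (h2 : ∀ a ∈ U, a * a = 1) {t : X} (t2 : t * t = 1) (htc : ∀ a ∈ U, a * t = t * a)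
    (ht : ∀ x : X, ⁅x, t⁆ ∈ U) :
    ∃ E : Subgroup X, E.Normal ∧ (∀ a ∈ E, ∀ b ∈ E, a * b = b * a) ∧ (∀ a ∈ E, a * a = 1) ∧
      ∀ x, x ∈ E ↔ ∃ u ∈ U, x = u ∨ x = u * t := by
  have k1 : ∀ a ∈ U, ∀ b, a * t * b = t * (a * b) := fun a ha b => by rw [htc a ha, mul_assoc]
  have k2 : ∀ a : X, ∀ b ∈ U, a * t * (b * t) = a * b := fun a b hb => by
    rw [htc b hb, mul_assoc, ← mul_assoc t t, t2, one_mul]
  have k3 : ∀ a : X, ∀ b ∈ U, a * t * b = a * b * t := fun a b hb => by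
    rw [mul_assoc, ← htc b hb, mul_assoc]
  have ti : t⁻¹ = t := inv_eq_of_mul_eq_one_right t2
  refine ⟨⟨⟨⟨{x | ∃ u ∈ U, x = u ∨ x = u * t}, ?_⟩, ⟨1, one_mem _, Or.inl rfl⟩⟩, ?_⟩, ⟨?_⟩, ?_, ?_,
    fun x => Iff.rfl⟩
  · rintro a b ⟨u, hu, rfl | rfl⟩ ⟨v, hv, rfl | rfl⟩
    · exact ⟨_, mul_mem hu hv, Or.inl rfl⟩
    · exact ⟨_, mul_mem hu hv, Or.inr (mul_assoc _ _ _).symm⟩
    · exact ⟨_, mul_mem hu hv, Or.inr (k3 _ _ hv)⟩
    · exact ⟨_, mul_mem hu hv, Or.inl (k2 _ _ hv)⟩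
  · rintro a ⟨u, hu, rfl | rfl⟩
    · exact ⟨_, inv_mem hu, Or.inl rfl⟩
    · exact ⟨_, inv_mem hu, Or.inr (by rw [mul_inv_rev, ti, htc _ (inv_mem hu)])⟩
  · rintro a ⟨u, hu, rfl | rfl⟩ g
    · exact ⟨_, hU.conj_mem _ hu g, Or.inl rfl⟩
    · exact ⟨_, mul_mem (hU.conj_mem _ hu g) (ht g), Or.inr (by
        rw [commutatorElement_def]; group)⟩
  · rintro a ⟨u, hu, rfl | rfl⟩ b ⟨v, hv, rfl | rfl⟩
    · exact hc _ hu _ hv
    · rw [k3 _ _ hu, ← mul_assoc, hc _ hu _ hv]
    · rw [k3 _ _ hv, ← mul_assoc, hc _ hu _ hv]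
    · rw [k2 _ _ hu, k2 _ _ hv, hc _ hu _ hv]
  · rintro a ⟨u, hu, rfl | rfl⟩
    · exact h2 _ hu
    · rw [k2 _ _ hu, h2 _ hu]

theorem mem_of (hN : NoE8 X) {U : Subgroup X} [hU : U.Normal] (h4 : 4 ≤ Nat.card U)
    (hc : ∀ a ∈ U, ∀ b ∈ U, a * b = b * a)
    (h2 : ∀ a ∈ U, a * a = 1) {t : X} (t2 : t * t = 1) (htc : ∀ a ∈ U, a * t = t * a)
    (ht : ∀ x : X, ⁅x, t⁆ ∈ U) : t ∈ U := by
  by_contra hn
  obtain ⟨E, h1, h3, h5, h6⟩ := ext hc h2 t2 htc ht
  have : U < E := lt_of_le_of_ne (fun u hu => (h6 u).2 ⟨u, hu, Or.inl rfl⟩) fun e =>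
    hn (e ▸ (h6 t).2 ⟨1, one_mem _, Or.inr (one_mul _).symm⟩)
  have h7 := card_lt this
  have h8 := hN E h1 h3 h5
  omega

theorem fixm {φ : MulAut X} (h : Odd (orderOf φ)) {x c : X} (hc : c * c = 1) (hcf : φ c = c)
    (hx : φ x = x * c) : φ x = x :=
  (Invol.oddEnd_of_mulAut h).fix_of_mul (n := 1) (by rw [pow_one, pow_two, hc]) hcf hx

theorem dvd_sum [Fintype X] (H : Subgroup X) (g : X → ℤ) (hg : ∀ x, ∀ h ∈ H, g (x * h) = g x) :
    (Nat.card H : ℤ) ∣ ∑ x, g x := by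
  classical
  have : Fintype H := Fintype.ofFinite _
  have : Fintype (X ⧸ H) := Fintype.ofFinite _
  have h1 : ∀ x, g x = g (Quotient.out (x : X ⧸ H)) := fun x => by
    obtain ⟨h, e⟩ := QuotientGroup.mk_out_eq_mul H x
    rw [e, hg _ _ h.2]
  have h2 : ∑ x, g x = ∑ p : (X ⧸ H) × H, g (Quotient.out p.1) :=
    Fintype.sum_equiv (groupEquivQuotientProdSubgroup (s := H)) _ _ fun x => h1 x
  rw [h2, Fintype.sum_prod_type]
  refine Finset.dvd_sum fun c _ => ?_
  simp [Nat.card_eq_fintype_card]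

theorem sum_neg [Fintype X] (g : X → ℤ) (t : X) (hg : ∀ x, g (x * t) = - g x) : ∑ x, g x = 0 := by
  have h : ∑ x, g (x * t) = ∑ x, g x := Fintype.sum_equiv (Equiv.mulRight t) _ _ fun _ => rfl
  simp only [hg, Finset.sum_neg_distrib] at h
  omega

theorem comm_mul (hcm : ∀ x y : X, ⁅x, y⁆ ∈ center X) (y x x' : X) :
    ⁅y, x * x'⁆ = ⁅y, x⁆ * ⁅y, x'⁆ := by
  calc ⁅y, x * x'⁆ = ⁅y, x⁆ * (x * ⁅y, x'⁆) * x⁻¹ := by simp only [commutatorElement_def]; group
    _ = _ := by rw [mem_center_iff.1 (hcm y x') x]; group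

theorem sq_mul (hcm : ∀ x y : X, ⁅x, y⁆ ∈ center X) (x y : X) :
    x * y * (x * y) = ⁅y, x⁆ * (x * x * (y * y)) := by
  calc x * y * (x * y) = (x * ⁅y, x⁆) * (x * (y * y)) := by simp only [commutatorElement_def]; group
    _ = _ := by rw [mem_center_iff.1 (hcm y x) x]; group

open Classical in
theorem sq_sum [Fintype X] (lam : X → ℤ) (hsq : ∀ x : X, x * x ∈ center X)
    (hcm : ∀ x y : X, ⁅x, y⁆ ∈ center X)
    (hmul : ∀ u ∈ center X, ∀ v ∈ center X, lam (u * v) = lam u * lam v)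
    (hpm : ∀ u ∈ center X, lam u = 1 ∨ lam u = -1) :
    (∑ x, lam (x * x)) ^ 2 =
      Fintype.card X * ∑ y, if ∀ x, lam ⁅y, x⁆ = 1 then lam (y * y) else 0 := by
  have h1 : ∀ x, lam (x * x) * ∑ y, lam (y * y) = ∑ y, lam ⁅y, x⁆ * lam (y * y) := fun x => by
    rw [← Fintype.sum_equiv (Equiv.mulLeft x) (fun y => lam (x * y * (x * y))) _ fun _ => rfl,
      Finset.mul_sum]
    refine Finset.sum_congr rfl fun y _ => ?_
    rw [sq_mul hcm, hmul _ (hcm _ _) _ (mul_mem (hsq _) (hsq _)), hmul _ (hsq _) _ (hsq _)]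
    rcases hpm _ (hsq x) with e | e <;> rw [e] <;> ring
  rw [pow_two, Finset.sum_mul, Finset.sum_congr rfl fun x _ => h1 x, Finset.sum_comm, Finset.mul_sum]
  refine Finset.sum_congr rfl fun y _ => ?_
  rw [← Finset.sum_mul]
  split_ifs with h
  · simp [h]
  · push Not at h
    obtain ⟨t, ht⟩ := h
    rw [sum_neg (fun x => lam ⁅y, x⁆) t fun x => by
      rw [comm_mul hcm, hmul _ (hcm _ _) _ (hcm _ _), (hpm _ (hcm y t)).resolve_left ht]; ring]
    ring

open Classical in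
theorem card_inv [Fintype X] :
    Nat.card {x : X // orderOf x = 2} + 1 = (Finset.univ.filter fun x : X => x * x = 1).card := by
  rw [Nat.card_eq_fintype_card, Fintype.card_subtype]
  have : (Finset.univ.filter fun x : X => x * x = 1) =
      insert 1 (Finset.univ.filter fun x : X => orderOf x = 2) := by
    ext x
    simp only [Finset.mem_filter, Finset.mem_univ, true_and, Finset.mem_insert]
    constructor
    · intro h
      by_cases h1 : x = 1
      · exact Or.inl h1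
      · exact Or.inr (orderOf_eq_prime (by rw [pow_two, h]) h1)
    · rintro (rfl | h)
      · exact one_mul _
      · rw [← pow_two, ← h, pow_orderOf_eq_one]
  rw [this, Finset.card_insert_of_notMem (by simp)]

open Classical in
theorem sum_pm [Fintype X] (p : X → Prop) :
    ∑ x, (if p x then (1 : ℤ) else -1) = 2 * (Finset.univ.filter p).card - Fintype.card X := by
  have : ∀ x, (if p x then (1 : ℤ) else -1) = 2 * (if p x then 1 else 0) - 1 := fun x => by
    split_ifs <;> norm_num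
  simp only [this, Finset.sum_sub_distrib, ← Finset.mul_sum, Finset.sum_boole]
  simp

open Classical in
theorem card_filter_mem [Fintype X] (H : Subgroup X) (p : X → Prop) (h : ∀ x, p x ↔ x ∈ H) :
    (Finset.univ.filter p).card = Nat.card H := by
  rw [Nat.card_eq_fintype_card, Fintype.card_subtype]
  congr 1
  ext x
  simp [h]

theorem four_enum {U : Subgroup X} (h4 : Nat.card U ≤ 4) (h2 : ∀ a ∈ U, a * a = 1) {u v : X} (hu : u ∈ U)
    (hv : v ∈ U) (u1 : u ≠ 1) (v1 : v ≠ 1) (uv : u ≠ v) :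
    ∀ w ∈ U, w = 1 ∨ w = u ∨ w = v ∨ w = u * v := by
  classical
  intro w hw
  by_contra hn
  push Not at hn
  obtain ⟨n1, n2, n3, n4⟩ := hn
  have e1 : u * v ≠ 1 := fun e => uv (mul_left_cancel (a := u) (by rw [e, h2 u hu]))
  have e2 : u * v ≠ u := fun e => v1 (mul_left_cancel (a := u) (by rw [e, mul_one]))
  have e3 : u * v ≠ v := fun e => u1 (mul_right_cancel (b := v) (by rw [e, one_mul]))
  have : Fintype X := Fintype.ofFinite _
  have h5 : ({w, 1, u, v, u * v} : Finset X).card = 5 := by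
    rw [Finset.card_insert_of_notMem (by simp [n1, n2, n3, n4]),
      Finset.card_insert_of_notMem (by simp [u1.symm, v1.symm, e1.symm]),
      Finset.card_insert_of_notMem (by simp [uv, e2.symm]), Finset.card_pair e3.symm]
  have h6 := card_filter_mem U (· ∈ U) fun _ => Iff.rfl
  have h7 : ({w, 1, u, v, u * v} : Finset X).card ≤ _ := Finset.card_le_card
    (t := Finset.univ.filter (· ∈ U)) (by
      intro x hx
      simp only [Finset.mem_insert, Finset.mem_singleton] at hx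
      simp only [Finset.mem_filter, Finset.mem_univ, true_and]
      rcases hx with rfl | rfl | rfl | rfl | rfl
      exacts [hw, one_mem _, hu, hv, mul_mem hu hv])
  have h8 : (Finset.univ.filter (· ∈ U)).card = Nat.card U := by convert h6
  omega

theorem two_case (hN : NoE8 X) (hsq : ∀ x : X, x * x ∈ center X)
    (hcm : ∀ x y : X, ⁅x, y⁆ ∈ center X) (he : ∀ u ∈ center X, u * u = 1)
    (hZ2 : Nat.card (center X) = 2) (hna : center X ≠ ⊤) :
    Nat.card X = 8 ∨ (Nat.card X = 32 ∧ Nat.card {x : X // orderOf x = 2} = 11) := by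
  classical
  have : Fintype X := Fintype.ofFinite _
  obtain ⟨z, z1, hZ⟩ : ∃ z : X, z ≠ 1 ∧ ∀ u, u ∈ center X ↔ u = 1 ∨ u = z := by
    obtain ⟨z, hz, hu⟩ := (Nat.card_eq_two_iff' (1 : center X)).1 hZ2
    refine ⟨z, fun e => hz (Subtype.ext e), fun u => ⟨fun h => ?_, ?_⟩⟩
    · by_cases e : u = 1
      · exact Or.inl e
      · exact Or.inr (congrArg Subtype.val (hu ⟨u, h⟩ fun e' => e (congrArg Subtype.val e')))
    · rintro (rfl | rfl)
      exacts [one_mem _, z.2]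
  have hz : z ∈ center X := (hZ z).2 (Or.inr rfl)
  let lam : X → ℤ := fun u => if u = 1 then 1 else -1
  have hmul : ∀ u ∈ center X, ∀ v ∈ center X, lam (u * v) = lam u * lam v := by
    intro u hu v hv
    rcases (hZ u).1 hu with rfl | rfl <;> rcases (hZ v).1 hv with rfl | rfl <;> simp [lam, z1, he _ hu]
  have hpm : ∀ u ∈ center X, lam u = 1 ∨ lam u = -1 := fun u _ => by
    simp only [lam]; split_ifs <;> simp
  have hS := sq_sum lam hsq hcm hmul hpm
  have h2 : ∀ y : X, (if ∀ x, lam ⁅y, x⁆ = 1 then lam (y * y) else 0) =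
      if y ∈ center X then 1 else 0 := fun y => by
    have : (∀ x, lam ⁅y, x⁆ = 1) ↔ y ∈ center X := by
      rw [mem_center_iff]
      refine forall_congr' fun x => ?_
      rw [eq_comm (a := x * y), ← commutatorElement_eq_one_iff_mul_comm]
      simp only [lam]; split_ifs with h <;> simp [h]
    by_cases h : y ∈ center X
    · rw [if_pos (this.2 h), if_pos h, he _ h]; simp [lam]
    · rw [if_neg (mt this.1 h), if_neg h]
  have h3 := card_filter_mem (center X) (· ∈ center X) fun _ => Iff.rfl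
  have h4 : ∑ y : X, (if y ∈ center X then (1 : ℤ) else 0) = 2 := by
    rw [Finset.sum_boole]
    have : (Finset.univ.filter (· ∈ center X)).card = 2 := by rw [← hZ2]; convert h3
    rw [this]; rfl
  have h5 : ∑ x : X, lam (x * x) = 2 * (Finset.univ.filter fun x : X => x * x = 1).card - Fintype.card X := by
    convert sum_pm (fun x : X => x * x = 1)
  have hS' : (∑ x : X, lam (x * x)) ^ 2 = Fintype.card X * 2 := by
    rw [← h4, ← Finset.sum_congr rfl fun y _ => h2 y]; convert hS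
  have h6 : Nat.card {x : X // orderOf x = 2} + 1 = (Finset.univ.filter fun x : X => x * x = 1).card := by
    convert card_inv (X := X)
  have h7 : 2 < Fintype.card X := by
    have := card_lt (lt_top_iff_ne_top.2 hna)
    rwa [hZ2, card_top, Nat.card_eq_fintype_card] at this
  rw [Nat.card_eq_fintype_card]
  by_cases hi : ∀ t : X, t * t = 1 → t ∈ center X
  · have h8 : (Finset.univ.filter fun x : X => x * x = 1).card = 2 := by
      rw [← hZ2]; convert card_filter_mem (center X) (fun x : X => x * x = 1) fun x => ⟨hi x, he x⟩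
    rw [h5, h8] at hS'
    left
    have : ((Fintype.card X : ℤ) - 8) * (Fintype.card X - 2) = 0 := by push_cast at hS'; linarith
    rcases mul_eq_zero.1 this with e | e <;> omega
  push Not at hi
  obtain ⟨t, t2, ht⟩ := hi
  obtain ⟨E, E1, E2, E3, E4⟩ := ext (U := center X) (fun a _ b hb => mem_center_iff.1 hb a) he t2
    (fun a ha => (mem_center_iff.1 ha t).symm) fun x => hcm x t
  have ZE : center X ≤ E := fun u hu => (E4 u).2 ⟨u, hu, Or.inl rfl⟩
  have tE : t ∈ E := (E4 t).2 ⟨1, one_mem _, Or.inr (one_mul _).symm⟩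
  have cE : Nat.card E = 4 := by
    have a1 := card_lt (lt_of_le_of_ne ZE fun e => ht (e ▸ tE))
    have a2 := hN E E1 E2 E3
    have a3 := card_dvd_of_le ZE
    rw [hZ2] at a1 a3
    generalize Nat.card E = n at *
    omega
  have mE : ∀ x, (⁅t, x⁆ = 1 ∧ x * x = 1) ↔ x ∈ E := fun x => ⟨fun h => by
      refine mem_of hN cE.ge E2 E3 h.2 (fun a ha => ?_) fun y => ZE (hcm _ _)
      obtain ⟨u, hu, rfl | rfl⟩ := (E4 a).1 ha
      · exact (mem_center_iff.1 hu x).symm
      · rw [mul_assoc, commutatorElement_eq_one_iff_mul_comm.1 h.1, ← mul_assoc,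
          ← mem_center_iff.1 hu x, mul_assoc],
    fun h => ⟨commutatorElement_eq_one_iff_mul_comm.2 (E2 _ tE _ h), E3 _ h⟩⟩
  obtain ⟨x0, hx0⟩ : ∃ x0 : X, ⁅t, x0⁆ ≠ 1 := by
    by_contra hn
    push Not at hn
    exact ht (mem_center_iff.2 fun x => (commutatorElement_eq_one_iff_mul_comm.1 (hn x)).symm)
  have p1 : ∑ x : X, lam ⁅t, x⁆ = 0 := sum_neg _ x0 fun x => by
    rw [comm_mul hcm, hmul _ (hcm _ _) _ (hcm _ _)]; simp [lam, hx0]
  have p2 : ∑ x : X, lam ⁅t, x⁆ = 2 * (Finset.univ.filter fun x : X => ⁅t, x⁆ = 1).card - Fintype.card X := by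
    convert sum_pm (fun x : X => ⁅t, x⁆ = 1)
  have p3 : ∑ x : X, (if ⁅t, x⁆ = 1 then 0 else lam (x * x)) = 0 := sum_neg _ t fun x => by
    rw [comm_mul hcm, commutatorElement_self, mul_one]
    split_ifs with h
    · rfl
    · rw [sq_mul hcm, t2, mul_one, hmul _ (hcm _ _) _ (hsq _)]; simp only [lam, if_neg h]; ring
  have p4 : ∀ x : X, lam (x * x) = (if ⁅t, x⁆ = 1 then 0 else lam (x * x)) +
      (2 * (if x ∈ E then 1 else 0) - if ⁅t, x⁆ = 1 then 1 else 0) := fun x => by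
    simp only [← mE, lam]
    by_cases a : ⁅t, x⁆ = 1 <;> by_cases b : x * x = 1 <;> simp [a, b]
  have p5 : (Finset.univ.filter (· ∈ E)).card = 4 := by
    rw [← cE]; convert card_filter_mem E (· ∈ E) fun _ => Iff.rfl
  have p6 : ∑ x : X, lam (x * x) = 8 - (Finset.univ.filter fun x : X => ⁅t, x⁆ = 1).card := by
    rw [Finset.sum_congr rfl fun x _ => p4 x, Finset.sum_add_distrib, p3, Finset.sum_sub_distrib,
      ← Finset.mul_sum, Finset.sum_boole, Finset.sum_boole, p5]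
    norm_num
  generalize (Finset.univ.filter fun x : X => ⁅t, x⁆ = 1).card = P at *
  generalize (Finset.univ.filter fun x : X => x * x = 1).card = N at *
  have q1 : (Fintype.card X : ℤ) = 2 * P := by omega
  rw [p6, q1] at hS'
  have : ((P : ℤ) - 4) * (P - 16) = 0 := by linarith
  rcases mul_eq_zero.1 this with e | e
  · left; omega
  · right; omega

theorem pow_dvd_of_sq (j : ℕ) : ∀ S : ℤ, 2 ^ (2 * j + 1) ∣ S ^ 2 → 2 ^ (j + 1) ∣ S := by
  induction j with
  | zero => exact fun S h => by simpa using Int.prime_two.dvd_of_dvd_pow (by simpa using h)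
  | succ j ih =>
    intro S h
    obtain ⟨T, rfl⟩ : 2 ∣ S := Int.prime_two.dvd_of_dvd_pow ((dvd_pow_self 2 (by omega)).trans h)
    rw [pow_succ']
    refine mul_dvd_mul_left 2 (ih T (Int.dvd_of_mul_dvd_mul_left (a := 4) (by norm_num) ?_))
    convert h using 1 <;> ring

theorem arith {k a b c : ℕ} (hs : 4 + a + b + c = 2 ^ k)
    (h : ∀ x, x = a ∨ x = b ∨ x = c → 4 ∣ x ∧ x ≠ 4 ∧ 4 + x < 2 ^ k ∧
      (2 : ℤ) ^ k * 4 ∣ (2 * (4 + x) - 2 ^ k) ^ 2) : k = 6 := by
  obtain ⟨a1, a2, a3, a4⟩ := h a (Or.inl rfl)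
  obtain ⟨b1, b2, b3, b4⟩ := h b (Or.inr (Or.inl rfl))
  obtain ⟨c1, c2, c3, c4⟩ := h c (Or.inr (Or.inr rfl))
  rcases (show k ≤ 4 ∨ k = 5 ∨ k = 6 ∨ 7 ≤ k by omega) with hk | rfl | rfl | hk
  · interval_cases k <;> omega
  · have a5 := pow_dvd_of_sq 3 _ (by simpa using a4)
    have b5 := pow_dvd_of_sq 3 _ (by simpa using b4)
    have c5 := pow_dvd_of_sq 3 _ (by simpa using c4)
    omega
  · rfl
  · obtain ⟨j, rfl⟩ := Nat.exists_eq_add_of_le hk
    have d : (2 : ℤ) ^ (2 * 4 + 1) ∣ 2 ^ (7 + j) * 4 := ⟨2 ^ j, by ring⟩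
    have a5 := pow_dvd_of_sq 4 _ (d.trans a4)
    have b5 := pow_dvd_of_sq 4 _ (d.trans b4)
    have c5 := pow_dvd_of_sq 4 _ (d.trans c4)
    have e : (4 + a + b + c : ℤ) = 2 ^ (7 + j) := by exact_mod_cast hs
    rw [pow_add] at e a5 b5 c5
    generalize (2 : ℤ) ^ j = m at *
    omega

end Cfsg.Agent.Scn
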