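import Cfsg.Agent.Scn.A
import Cfsg.Agent.PGrp.MaxClass

/-! S1904, case I (helper3): the group is special and `A` centralizes the centre. -/

set_option autoImplicit false
set_option linter.unusedSectionVars false

namespace Cfsg.Agent.Scn

open Subgroup
open scoped commutatorElement

variable {X : Type*} [Group X] [Finite X]

theorem exists_two {U : Subgroup X} (h4 : 2 < Nat.card U) :
    ∃ u ∈ U, ∃ v ∈ U, u ≠ 1 ∧ v ≠ 1 ∧ u ≠ v := by
  classical
  have : Fintype U := Fintype.ofFinite _
  rw [Nat.card_eq_fintype_card] at h4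
  obtain ⟨a, b, c, h1, h2, h3⟩ := Fintype.two_lt_card_iff.1 h4
  refine ⟨a⁻¹ * b, (a⁻¹ * b).2, a⁻¹ * c, (a⁻¹ * c).2, fun e => h1 ?_, fun e => h2 ?_, fun e => h3 ?_⟩
  · exact Subtype.ext (inv_mul_eq_one.1 e)
  · exact Subtype.ext (inv_mul_eq_one.1 e)
  · exact Subtype.ext (mul_left_cancel e)

theorem four_case (hX : IsPGroup 2 X) (hN : NoE8 X) (hsq : ∀ x : X, x * x ∈ center X)
    (hcm : ∀ x y : X, ⁅x, y⁆ ∈ center X) (he : ∀ u ∈ center X, u * u = 1)
    (hZ4 : Nat.card (center X) = 4) (hcZ : center X ≤ commutator X) (A : Subgroup (MulAut X))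
    (hA : ∀ a ∈ A, Odd (orderOf a)) (hfix : ∀ g : X, g ∈ center X ↔ ∀ a ∈ A, a g = g) :
    Nat.card X = 64 ∧ Nat.card {x : X // orderOf x = 2} = 3 ∧
      ∀ x : X, orderOf x = 2 → x ∈ center X := by
  classical
  have : Fintype X := Fintype.ofFinite _
  have hi : ∀ t : X, t * t = 1 → t ∈ center X := fun t t2 =>
    mem_of hN hZ4.ge (fun a _ b hb => mem_center_iff.1 hb a) he t2
      (fun a ha => (mem_center_iff.1 ha t).symm) fun x => hcm x t
  have h1 : (Finset.univ.filter fun x : X => x * x = 1).card = 4 := by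
    rw [← hZ4]; convert card_filter_mem (center X) (fun x : X => x * x = 1) fun x => ⟨hi x, he x⟩
  have h6 : Nat.card {x : X // orderOf x = 2} + 1 = (Finset.univ.filter fun x : X => x * x = 1).card := by
    convert card_inv (X := X)
  refine ⟨?_, by omega, fun x hx => hi x (by rw [← pow_two, ← hx, pow_orderOf_eq_one])⟩
  obtain ⟨k, hk⟩ := IsPGroup.iff_card.1 hX
  have hk' : Fintype.card X = 2 ^ k := by rw [← hk, Nat.card_eq_fintype_card]
  let n : X → ℕ := fun z => (Finset.univ.filter fun x : X => x * x = z).card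
  have sqz : ∀ x : X, ∀ u ∈ center X, x * u * (x * u) = x * x := fun x u hu => by
    rw [mul_assoc, ← mul_assoc u, ← mem_center_iff.1 hu x, mul_assoc, he u hu, mul_one]
  have key : ∀ z ∈ center X, z ≠ 1 → 4 ∣ n z ∧ n z ≠ 4 ∧ 4 + n z < 2 ^ k ∧
      (2 : ℤ) ^ k * 4 ∣ (2 * (4 + n z) - 2 ^ k) ^ 2 := by
    intro z hz z1
    have c1 : (Finset.univ.filter fun x : X => x * x = 1 ∨ x * x = z).card = 4 + n z := by
      rw [Finset.filter_or, Finset.card_union_of_disjoint, h1]
      exact Finset.disjoint_filter.2 fun x _ e e' => z1 (e'.symm.trans e)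
    refine ⟨?_, fun h4 => ?_, ?_, ?_⟩
    · have := dvd_sum (center X) (fun x => if x * x = z then 1 else 0) fun x u hu => by
        simp only [sqz x u hu]
      rw [Finset.sum_boole, hZ4] at this
      exact_mod_cast this
    · obtain ⟨x, hx⟩ : (Finset.univ.filter fun x : X => x * x = z).Nonempty :=
        Finset.card_pos.1 (by change 0 < n z; omega)
      have hx' : x * x = z := (Finset.mem_filter.1 hx).2
      have e : (Finset.univ.filter fun u : X => u * u = 1).image (x * ·) =
          Finset.univ.filter fun x : X => x * x = z := by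
        refine Finset.eq_of_subset_of_card_le (fun y hy => ?_) ?_
        · obtain ⟨u, hu, rfl⟩ := Finset.mem_image.1 hy
          exact Finset.mem_filter.2 ⟨Finset.mem_univ _, by
            rw [sqz x u (hi u (Finset.mem_filter.1 hu).2), hx']⟩
        · rw [Finset.card_image_of_injective _ (mul_right_injective x), h1]; exact h4.le
      have : x ∈ center X := (hfix x).2 fun a ha => by
        have : a x ∈ Finset.univ.filter fun x : X => x * x = z := Finset.mem_filter.2
          ⟨Finset.mem_univ _, by rw [← map_mul, hx', (hfix z).1 hz a ha]⟩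
        rw [← e] at this
        obtain ⟨u, hu, e'⟩ := Finset.mem_image.1 this
        have u2 := (Finset.mem_filter.1 hu).2
        exact fixm (hA a ha) u2 ((hfix u).1 (hi u u2) a ha) e'.symm
      exact z1 (hx'.symm.trans (he x this))
    · rw [← c1, ← hk']
      refine (Finset.card_lt_iff_ne_univ _).2 fun e => ?_
      have hall : ∀ x : X, x * x ∈ zpowers z := fun x => by
        rcases (Finset.mem_filter.1 (e ▸ Finset.mem_univ x)).2 with e' | e' <;> rw [e']
        exacts [one_mem _, mem_zpowers z]
      have : commutator X ≤ zpowers z := commutator_le.2 fun y _ x _ => by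
        rw [eq_mul_inv_of_mul_eq (sq_mul hcm x y).symm]
        exact mul_mem (hall _) (inv_mem (mul_mem (hall _) (hall _)))
      have := card_le_of_le (hcZ.trans this)
      rw [hZ4, Nat.card_zpowers, orderOf_eq_prime (p := 2) (by rw [pow_two, he z hz]) z1] at this
      omega
    · let lam : X → ℤ := fun u => if u = 1 ∨ u = z then 1 else -1
      have hmul : ∀ u ∈ center X, ∀ v ∈ center X, lam (u * v) = lam u * lam v := by
        have zz := he z hz
        have m1 : ∀ v ∈ center X, lam (z * v) = lam v := fun v _ => by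
          have : (z * v = 1 ∨ z * v = z) ↔ (v = 1 ∨ v = z) := by
            rw [or_comm, mul_eq_left, ← zz, mul_right_inj, zz]
          simp only [lam, this]
        intro u hu v hv
        by_cases u1 : u = 1
        · simp [u1, lam]
        by_cases uz : u = z
        · rw [uz, m1 v hv]; simp [lam]
        have lu : lam u = -1 := by simp [lam, u1, uz]
        rcases four_enum hZ4.le he hz hu z1 u1 (Ne.symm uz) v hv with rfl | rfl | rfl | rfl
        · simp [lam]
        · rw [mem_center_iff.1 hv u, m1 u hu]; simp [lam]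
        · rw [he _ hu, lu]; simp [lam]
        · rw [m1 u hu, ← mul_assoc, mem_center_iff.1 hz u, mul_assoc, he _ hu, mul_one, lu]; simp [lam]
      have hpm : ∀ u ∈ center X, lam u = 1 ∨ lam u = -1 := fun u _ => by
        simp only [lam]; split_ifs <;> simp
      have hS := sq_sum lam hsq hcm hmul hpm
      have h5 : ∑ x : X, lam (x * x) = 2 * (4 + n z : ℕ) - Fintype.card X := by
        rw [← c1]; convert sum_pm (fun x : X => x * x = 1 ∨ x * x = z)
      have h7 := dvd_sum (center X) (fun y => if ∀ x, lam ⁅y, x⁆ = 1 then lam (y * y) else 0)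
        fun y u hu => by
          have : ∀ x : X, ⁅y * u, x⁆ = ⁅y, x⁆ := fun x => by
            simp only [commutatorElement_def]
            rw [mul_assoc y u, ← mem_center_iff.1 hu x]; group
          simp only [sqz y u hu, this]
      rw [hZ4] at h7
      rw [h5, hk'] at hS
      push_cast at hS h7
      rw [hS]
      exact mul_dvd_mul_left _ (by convert h7)
  obtain ⟨u, hu, v, hv, u1, v1, uv⟩ := exists_two (U := center X) (by omega)
  have e1 : u * v ≠ 1 := fun e => uv (mul_left_cancel (a := u) (by rw [e, he u hu]))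
  have e2 : u * v ≠ u := fun e => v1 (mul_left_cancel (a := u) (by rw [e, mul_one]))
  have e3 : u * v ≠ v := fun e => u1 (mul_right_cancel (b := v) (by rw [e, one_mul]))
  have hs : 4 + n u + n v + n (u * v) = 2 ^ k := by
    have : ∀ x : X, (if x * x = 1 then 1 else 0) + (if x * x = u then 1 else 0) +
        (if x * x = v then 1 else 0) + (if x * x = u * v then 1 else 0) = 1 := fun x => by
      rcases four_enum hZ4.le he hu hv u1 v1 uv _ (hsq x) with e | e | e | e <;>
        simp [e, u1, v1, uv, e1, e2, e3, u1.symm, v1.symm, uv.symm, e1.symm, e2.symm, e3.symm]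
    have := Finset.sum_congr (s₁ := Finset.univ) rfl fun x _ => this x
    simp only [Finset.sum_add_distrib, Finset.sum_boole, h1, Finset.sum_const, Finset.card_univ, hk',
      smul_eq_mul, mul_one, Nat.cast_id] at this
    exact this
  rw [hk, arith hs fun x hx => ?_]
  · rfl
  rcases hx with rfl | rfl | rfl
  exacts [key u hu u1, key v hv v1, key _ (mul_mem hu hv) e1]

theorem caseI (hX : IsPGroup 2 X) (hN : NoE8 X) (hna : ¬ IsMulCommutative X)
    (A : Subgroup (MulAut X)) (hA : Odd (Nat.card A))
    (hXA : closure {g : X | ∃ φ ∈ A, ∃ x : X, g = x⁻¹ * φ x} = ⊤)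
    (hch : ∀ H : Subgroup X, H.Characteristic → IsMulCommutative H → ∀ a ∈ A, ∀ h ∈ H, a h = h) :
    Nonempty (X ≃* QuaternionGroup 2) ∨
      (Cfsg.IsSpecial 2 X ∧ Nat.card X = 64 ∧ Nat.card {x : X // orderOf x = 2} = 3 ∧
        ∀ x : X, orderOf x = 2 → x ∈ Subgroup.center X) ∨
      (Cfsg.IsExtraspecial 2 X ∧ Nat.card X = 32 ∧ Nat.card {x : X // orderOf x = 2} = 11) := by
  have hA' : ∀ a ∈ A, Odd (orderOf a) := fun a ha => hA.of_dvd_nat (A.orderOf_dvd_natCard ha)
  obtain ⟨hsp, hfix⟩ := S0119.result hX A (Nat.coprime_two_right.2 hA) (by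
    rw [← hXA]; congr 1; ext x
    exact ⟨fun ⟨g, a, ha, e⟩ => ⟨a, ha, g, e⟩, fun ⟨a, ha, g, e⟩ => ⟨g, a, ha, e⟩⟩) hch
  have hsq : ∀ x : X, x * x ∈ center X := fun x => by
    rw [← pow_two]; exact hsp.2.1 ▸ Solv.pow_mem_frattini hX x
  have hcm : ∀ x y : X, ⁅x, y⁆ ∈ center X := fun a b =>
    hsp.2.2 ▸ commutator_mem_commutator (mem_top a) (mem_top b)
  have he : ∀ z ∈ center X, z * z = 1 := by
    intro z hz
    rw [← hsp.2.2, _root_.commutator_eq_closure] at hz
    induction hz using closure_induction with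
    | mem z hz =>
      obtain ⟨a, b, rfl⟩ := hz
      rw [← comm_mul hcm]
      exact commutatorElement_eq_one_iff_mul_comm.2 (mem_center_iff.1 (hsq b) a)
    | one => exact one_mul _
    | mul a b ha hb iha ihb =>
      rw [← _root_.commutator_eq_closure, hsp.2.2] at hb
      rw [mul_assoc, ← mul_assoc b, ← mem_center_iff.1 hb a, mul_assoc, ihb, mul_one, iha]
    | inv a _ ih => rw [← mul_inv_rev, ih, inv_one]
  have Zt : center X ≠ ⊤ := fun e => hna ⟨⟨fun a b => mem_center_iff.1 (e ▸ mem_top b) a⟩⟩
  have Zne : center X ≠ ⊥ := by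
    rw [← hsp.2.2]; exact fun e => hna (PGrp.commutator_eq_bot_iff.1 e)
  have h4 := hN (center X) inferInstance (fun a _ b hb => mem_center_iff.1 hb a) he
  obtain ⟨k, hk⟩ := IsPGroup.iff_card.1 (hX.to_subgroup (center X))
  have h1 := (one_lt_card_iff_ne_bot _).2 Zne
  have hk2 : k ≤ 2 := by
    by_contra hn
    have : 2 ^ 3 ≤ 2 ^ k := Nat.pow_le_pow_right (by norm_num) (by omega)
    omega
  interval_cases k
  · omega
  · rcases two_case hN hsq hcm he hk Zt with h8 | h32
    · left
      refine S4189.result hX hna ?_ fun hp => Zt ?_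
      · have := (commutator X).card_mul_index
        rw [hsp.2.2, hk, h8] at this
        rw [hsp.2.2]; omega
      · refine eq_top_iff.2 fun x _ => (hfix x).2 fun a ha => ?_
        obtain ⟨j, hj⟩ := IsPGroup.iff_orderOf.1 hp a
        have := hA' a ha
        rw [hj] at this
        rcases j with _ | j
        · rw [orderOf_eq_one_iff.1 hj]; rfl
        · exact absurd this (by simp [Nat.odd_pow_iff])
    · exact Or.inr (Or.inr ⟨⟨hsp, hk⟩, h32⟩)
  · exact Or.inr (Or.inl ⟨hsp, four_case hX hN hsq hcm he hk hsp.2.2.ge A hA' hfix⟩)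

end Cfsg.Agent.Scn
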