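import Cfsg.Agent.Scn.B
import Cfsg.Agent.FpC.E
import Cfsg.Agent.S1237
import Cfsg.Agent.S1141
import Cfsg.Agent.S1137
import Cfsg.Agent.S1138
import Mathlib.FieldTheory.Finite.GaloisField

/-! S1904, tools for case II (helper3): `tor`, `exists_cen`, `triv`, `struct` (wrapper of S1237). -/

set_option autoImplicit false
set_option linter.unusedSectionVars false

namespace Cfsg.Agent.Scn

open Subgroup
open scoped commutatorElement

variable {X : Type*} [Group X] [Finite X]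

/-- the `n`-torsion of an abelian subgroup -/
def tor (B : Subgroup X) (hc : ∀ a ∈ B, ∀ b ∈ B, a * b = b * a) (n : ℕ) : Subgroup X where
  carrier := {x | x ∈ B ∧ x ^ n = 1}
  one_mem' := ⟨one_mem _, one_pow _⟩
  mul_mem' := fun {a b} ha hb => ⟨mul_mem ha.1 hb.1, by
    rw [(show Commute a b from hc _ ha.1 _ hb.1).mul_pow, ha.2, hb.2, one_mul]⟩
  inv_mem' := fun {a} ha => ⟨inv_mem ha.1, by rw [inv_pow, ha.2, inv_one]⟩

theorem mem_tor {B : Subgroup X} {hc : ∀ a ∈ B, ∀ b ∈ B, a * b = b * a} {n : ℕ} {x : X} :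
    x ∈ tor B hc n ↔ x ∈ B ∧ x ^ n = 1 := Iff.rfl

theorem chr_app {B : Subgroup X} (hB : B.Characteristic) (ψ : MulAut X) {x : X} (hx : x ∈ B) : ψ x ∈ B :=
  characteristic_iff_le_comap.1 hB ψ hx

theorem tor_char {B : Subgroup X} (hc : ∀ a ∈ B, ∀ b ∈ B, a * b = b * a) (n : ℕ)
    (hB : B.Characteristic) : (tor B hc n).Characteristic :=
  characteristic_iff_le_comap.2 fun ψ x hx => ⟨chr_app hB ψ hx.1, by
    change (ψ x) ^ n = 1
    rw [← map_pow, hx.2, map_one]⟩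

theorem exists_cen (hX : IsPGroup 2 X) {W D : Subgroup X} [D.Normal] (h : ¬ D ≤ W) :
    ∃ e ∈ D, e ∉ W ∧ ∀ x : X, ⁅x, e⁆ ∈ W := by
  have := hX.isNilpotent
  obtain ⟨M, hM, ⟨h1, h2⟩, hmin⟩ := FpC.exists_min (fun M : Subgroup X => M.Normal ∧ ¬ M ≤ W)
    (N := D) ⟨inferInstance, h⟩
  have h3 : ⁅M, (⊤ : Subgroup X)⁆ ≤ W := by
    by_contra hn
    have := FpC.nil_bot (hmin _ ⟨inferInstance, hn⟩ (commutator_le_left _ _)).ge
    exact h2 (this ▸ bot_le)
  obtain ⟨e, he, hn⟩ := SetLike.not_le_iff_exists.1 h2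
  refine ⟨e, hM he, hn, fun x => h3 ?_⟩
  rw [commutator_comm]
  exact commutator_mem_commutator (mem_top x) he

theorem four_le {U : Subgroup X} (h2 : ∀ a ∈ U, a * a = 1) {u v : X} (hu : u ∈ U)
    (hv : v ∈ U) (u1 : u ≠ 1) (v1 : v ≠ 1) (uv : u ≠ v) : 4 ≤ Nat.card U := by
  classical
  have e1 : u * v ≠ 1 := fun e => uv (mul_left_cancel (a := u) (by rw [e, h2 u hu]))
  have e2 : u * v ≠ u := fun e => v1 (mul_left_cancel (a := u) (by rw [e, mul_one]))
  have e3 : u * v ≠ v := fun e => u1 (mul_right_cancel (b := v) (by rw [e, one_mul]))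
  have : Fintype X := Fintype.ofFinite _
  have h5 : ({1, u, v, u * v} : Finset X).card = 4 := by
    rw [Finset.card_insert_of_notMem (by simp [u1.symm, v1.symm, e1.symm]),
      Finset.card_insert_of_notMem (by simp [uv, e2.symm]), Finset.card_pair e3.symm]
  have h6 := card_filter_mem U (· ∈ U) fun _ => Iff.rfl
  have h7 : ({1, u, v, u * v} : Finset X).card ≤ _ := Finset.card_le_card
    (t := Finset.univ.filter (· ∈ U)) (by
      intro x hx
      simp only [Finset.mem_insert, Finset.mem_singleton] at hx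
      simp only [Finset.mem_filter, Finset.mem_univ, true_and]
      rcases hx with rfl | rfl | rfl | rfl
      exacts [one_mem _, hu, hv, mul_mem hu hv])
  have h8 : (Finset.univ.filter (· ∈ U)).card = Nat.card U := by convert h6
  omega

theorem triv {U : Subgroup X} (h4 : Nat.card U ≤ 4) (hc : ∀ a ∈ U, ∀ b ∈ U, a * b = b * a)
    (h2 : ∀ a ∈ U, a * a = 1) {φ : MulAut X} (ho : Odd (orderOf φ)) (hφ : ∀ w ∈ U, φ w ∈ U)
    {u : X} (hu : u ∈ U) (u1 : u ≠ 1) (e : φ u = u) : ∀ w ∈ U, φ w = w := by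
  intro w hw
  by_cases w1 : w = 1
  · rw [w1, map_one]
  by_cases wu : u = w
  · rw [← wu, e]
  rcases four_enum h4 h2 hu hw u1 w1 wu _ (hφ w hw) with h | h | h | h
  · exact absurd ((map_eq_one_iff _ φ.injective).1 h) w1
  · exact absurd (φ.injective (e.trans h.symm)) wu
  · exact h
  · exact fixm ho (h2 u hu) e (h.trans (hc _ hu _ hw))

theorem exists_pow (hX : IsPGroup 2 X) (j : ℕ) {u : X} (h : u ^ 2 ^ j ≠ 1) :
    ∃ n : ℕ, (u ^ n) ^ 2 ^ (j + 1) = 1 ∧ (u ^ n) ^ 2 ^ j ≠ 1 := by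
  classical
  have hex : ∃ m, u ^ 2 ^ (j + m) = 1 := by
    obtain ⟨k, hk⟩ := hX u
    exact ⟨k, by rw [pow_add, mul_comm, pow_mul, hk, one_pow]⟩
  have h1 := Nat.find_spec hex
  rcases hm : Nat.find hex with _ | m
  · rw [hm] at h1; exact absurd h1 h
  · have h2 := Nat.find_min hex (m := m) (by omega)
    rw [hm] at h1
    refine ⟨2 ^ m, ?_, ?_⟩
    · rw [← pow_mul, ← pow_add, ← h1]; congr 2; omega
    · rw [← pow_mul, ← pow_add, add_comm]; exact h2

theorem exists_v0 (hX : IsPGroup 2 X) (hN : NoE8 X) {B : Subgroup X} (hB : B.Characteristic)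
    (hBc : IsMulCommutative B) {a : MulAut X} (ho : Odd (orderOf a)) {b : X} (hb : b ∈ B) (hab : a b ≠ b) :
    ∃ v ∈ center X, v * v = 1 ∧ a v ≠ v := by
  have hc : ∀ x ∈ B, ∀ y ∈ B, x * y = y * x := fun x hx y hy =>
    congrArg Subtype.val (hBc.is_comm.comm (⟨x, hx⟩ : B) ⟨y, hy⟩)
  by_contra hn
  push Not at hn
  have hU := tor_char hc 2 hB
  have hUc : ∀ x ∈ tor B hc 2, ∀ y ∈ tor B hc 2, x * y = y * x := fun x hx y hy => hc _ hx.1 _ hy.1
  have hU2 : ∀ x ∈ tor B hc 2, x * x = 1 := fun x hx => by rw [← pow_two, hx.2]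
  have h1 : ∀ w ∈ tor B hc 2, a w = w := by
    by_cases h : tor B hc 2 ≤ ⊥
    · intro w hw; rw [mem_bot.1 (h hw), map_one]
    · obtain ⟨e, he, e1, h3⟩ := exists_cen hX h
      exact triv (hN _ inferInstance hUc hU2) hUc hU2 ho (fun w hw => chr_app hU a hw) he
        (fun h => e1 (mem_bot.2 h)) (hn e (mem_center_iff.2 fun x =>
          commutatorElement_eq_one_iff_mul_comm.1 (mem_bot.1 (h3 x))) (hU2 e he))
  have h2 : ∀ n : ℕ, ∀ b ∈ B, b ^ 2 ^ n = 1 → a b = b := by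
    intro n
    induction n with
    | zero => intro b _ h; rw [pow_zero, pow_one] at h; rw [h, map_one]
    | succ n ih =>
      intro b hb h
      have e := ih (b ^ 2) (pow_mem hb 2) (by rw [← pow_mul, ← pow_succ', h])
      have m : b⁻¹ * a b ∈ tor B hc 2 := ⟨mul_mem (inv_mem hb) (chr_app hB a hb), by
        rw [(show Commute b⁻¹ (a b) from hc _ (inv_mem hb) _ (chr_app hB a hb)).mul_pow, ← map_pow, e,
          inv_pow, inv_mul_cancel]⟩
      exact fixm ho (hU2 _ m) (h1 _ m) (by group)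
  obtain ⟨k, hk⟩ := hX b
  exact hab (h2 k b hb hk)

theorem struct {T : Type*} [Group T] [Finite T] (hT : IsPGroup 2 T) {U : Subgroup T}
    (h4 : Nat.card U = 4) (hc : ∀ a ∈ U, ∀ b ∈ U, a * b = b * a) (h2 : ∀ a ∈ U, a * a = 1)
    (hi : ∀ t : T, t * t = 1 → t ∈ U) (φ : MulAut T)
    (hφ : ∀ u ∈ U, u ≠ 1 → ∀ w ∈ U, w = 1 ∨ w = u ∨ w = φ u ∨ w = φ (φ u)) :
    IsMulCommutative T ∨ (Nat.card T = 64 ∧ Nat.card (center T) = 4 ∧ (∀ z ∈ center T, z * z = 1) ∧
      (∀ x : T, x * x ∈ center T) ∧ ∀ x y : T, ⁅x, y⁆ ∈ center T) := by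
  classical
  have : Fintype (GaloisField 2 4) := Fintype.ofFinite _
  have hF : Fintype.card (GaloisField 2 4) = 16 := by
    rw [← Nat.card_eq_fintype_card, GaloisField.card 2 4 (by norm_num)]; rfl
  obtain ⟨P⟩ : Nonempty (Sylow 2 (Cfsg.PSU 3 (GaloisField 2 4) 4)) := inferInstance
  have o2 : ∀ s : T, orderOf s = 2 → s ∈ U ∧ s ≠ 1 := fun s hs =>
    ⟨hi s (by rw [← pow_two, ← hs, pow_orderOf_eq_one]), fun e => by simp [e] at hs⟩
  rcases S1237.result hT (fun A _ hA => by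
      refine (card_le_of_le fun x hx => hi x ?_).trans h4.le
      rw [← pow_two, hA x hx])
    (fun h => by
      have := h U ⟨⟨fun a b => Subtype.ext (hc _ a.2 _ b.2)⟩⟩ fun a ha => by rw [pow_two, h2 a ha]
      omega) φ
    (fun s t hs ht => by
      rcases hφ s (o2 s hs).1 (o2 s hs).2 t (o2 t ht).1 with e | e | e | e
      · exact absurd e (o2 t ht).2
      · exact ⟨0, e.symm⟩
      · exact ⟨1, by rw [pow_one, e]⟩
      · exact ⟨2, by rw [pow_two, e]; rfl⟩) hF P with ⟨n, -, ⟨e⟩⟩ | ⟨⟨e⟩⟩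
  · exact Or.inl ⟨⟨fun a b => e.injective (by rw [map_mul, map_mul, mul_comm])⟩⟩
  · obtain ⟨c1, c2, c3⟩ := S1141.result (n := 2) le_rfl hF P
    obtain ⟨-, d1⟩ := S1137.result c3
    obtain ⟨d2, d3, -⟩ := S1138.result c3
    have hz : ∀ z : T, z ∈ center T ↔ e z ∈ center _ := fun z => by
      simp only [mem_center_iff]
      exact ⟨fun h y => by
        obtain ⟨y, rfl⟩ := e.surjective y
        rw [← map_mul, ← map_mul, h], fun h y => e.injective (by rw [map_mul, map_mul, h])⟩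
    refine Or.inr ⟨(Nat.card_congr e.toEquiv).trans c1, ?_, fun z h => e.injective ?_, fun x => (hz _).2 ?_,
      fun x y => (hz _).2 ?_⟩
    · exact (Nat.card_congr (e.toEquiv.subtypeEquiv hz)).trans c2
    · rw [map_mul, map_one]; exact d1 _ ((hz z).1 h)
    · rw [map_mul]; exact d2 _
    · have := d3 (e x)⁻¹ (e y)⁻¹
      rw [inv_inv, inv_inv] at this
      simp only [commutatorElement_def, map_mul, map_inv]
      exact this

end Cfsg.Agent.Scn
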