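import Cfsg.Agent.Scn.C
import Cfsg.Agent.BG.S1c

/-! S1904, case II (helper3): a central four-group `V` with `a` acting nontrivially; all involutions lie in `V`. -/

set_option autoImplicit false
set_option linter.unusedSectionVars false

namespace Cfsg.Agent.Scn

open Subgroup
open scoped commutatorElement

variable {X : Type*} [Group X] [Finite X]

/-- the central four-group -/
structure VS (a : MulAut X) (V : Subgroup X) : Prop where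
  cen : ∀ v ∈ V, ∀ x, x * v = v * x
  sq : ∀ v ∈ V, v * v = 1
  card : Nat.card V = 4
  chr : V.Characteristic
  star : ∀ t, t * t = 1 → (∀ x : X, ⁅x, t⁆ ∈ V) → t ∈ V
  aa : ∀ u ∈ V, u ≠ 1 → a (a u) = u * a u
  enum : ∀ u ∈ V, u ≠ 1 → ∀ w ∈ V, w = 1 ∨ w = u ∨ w = a u ∨ w = u * a u
  a3 : ∀ u ∈ V, a (a (a u)) = u

theorem exists_VS (hN : NoE8 X) {a : MulAut X} (ho : Odd (orderOf a)) {v : X} (hv : v ∈ center X)
    (v2 : v * v = 1) (hav : a v ≠ v) : ∃ V, VS a V := by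
  let V := tor (center X) (fun a _ b hb => mem_center_iff.1 hb a) 2
  have chr : V.Characteristic := tor_char _ 2 inferInstance
  have cen : ∀ v ∈ V, ∀ x, x * v = v * x := fun v hv x => mem_center_iff.1 hv.1 x
  have sq : ∀ v ∈ V, v * v = 1 := fun v hv => by rw [← pow_two, hv.2]
  have hc : ∀ a ∈ V, ∀ b ∈ V, a * b = b * a := fun a _ b hb => cen b hb a
  have h4 := hN V inferInstance hc sq
  have vV : v ∈ V := ⟨hv, by rw [pow_two, v2]⟩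
  have n1 : ∀ u : X, u ≠ 1 → a u ≠ 1 := fun u h e => h ((map_eq_one_iff _ a.injective).1 e)
  have v1 : v ≠ 1 := fun e => hav (by rw [e, map_one])
  have h5 := four_le sq vV (chr_app chr a vV) v1 (n1 v v1) hav.symm
  have ne : ∀ u ∈ V, u ≠ 1 → a u ≠ u := fun u hu u1 e =>
    hav (triv h4 hc sq ho (fun w hw => chr_app chr a hw) hu u1 e v vV)
  have enum : ∀ u ∈ V, u ≠ 1 → ∀ w ∈ V, w = 1 ∨ w = u ∨ w = a u ∨ w = u * a u := fun u hu u1 =>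
    four_enum h4 sq hu (chr_app chr a hu) u1 (n1 u u1) (ne u hu u1).symm
  have aa : ∀ u ∈ V, u ≠ 1 → a (a u) = u * a u := fun u hu u1 => by
    rcases enum u hu u1 _ (chr_app chr a (chr_app chr a hu)) with e | e | e | e
    · exact absurd e (n1 _ (n1 u u1))
    · exact absurd ((Invol.oddEnd_of_mulAut ho).fix_of_sq e) (ne u hu u1)
    · exact absurd (a.injective e) (ne u hu u1)
    · exact e
  refine ⟨V, cen, sq, le_antisymm h4 h5, chr, fun t t2 ht =>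
    mem_of hN h5 hc sq t2 (fun a ha => (cen a ha t).symm) ht, aa, enum, fun u hu => ?_⟩
  by_cases u1 : u = 1
  · simp [u1]
  · rw [aa u hu u1, map_mul, aa u hu u1, ← mul_assoc, cen u hu, mul_assoc, sq _ (chr_app chr a hu), mul_one]

theorem inv_comm (s : X) {t : X} (t2 : t * t = 1) : t * ⁅s, t⁆ * t⁻¹ = ⁅s, t⁆⁻¹ := by
  have ti : t⁻¹ = t := inv_eq_of_mul_eq_one_right t2
  rw [commutatorElement_inv, commutatorElement_def, commutatorElement_def, ti]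
  simp only [mul_assoc, t2, mul_one]

theorem three {K : Subgroup X} [hK : K.Normal] {t s : X} (ht : ∀ k ∈ K, ⁅k, t⁆ ∈ center X)
    (hs : ∀ k ∈ K, ⁅k, s⁆ ∈ center X) : ⁅s, t⁆ ∈ centralizer (K : Set X) := by
  have e : ∀ {t : X} (k : X), t * k * t⁻¹ = ⁅k, t⁆⁻¹ * k := fun k => by
    simp only [commutatorElement_def]; group
  have e2 : ∀ {t s : X}, (∀ k ∈ K, ⁅k, t⁆ ∈ center X) → (∀ k ∈ K, ⁅k, s⁆ ∈ center X) → ∀ k ∈ K,
      t * s * k * (t * s)⁻¹ = ⁅k, s⁆⁻¹ * ⁅k, t⁆⁻¹ * k := fun {t s} ht hs k hk => by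
    calc t * s * k * (t * s)⁻¹ = t * (s * k * s⁻¹) * t⁻¹ := by group
      _ = (t * ⁅k, s⁆⁻¹) * k * t⁻¹ := by rw [e]; group
      _ = ⁅k, s⁆⁻¹ * (t * k * t⁻¹) := by rw [mem_center_iff.1 (inv_mem (hs k hk)) t]; group
      _ = _ := by rw [e, mul_assoc]
  intro k hk
  have hk' : (t * s)⁻¹ * k * (t * s) ∈ K := hK.conj_mem' k hk _
  have h1 := e2 ht hs _ hk'
  have h2 := e2 hs ht _ hk'
  rw [mem_center_iff.1 (inv_mem (hs _ hk')), ← h1] at h2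
  calc k * ⁅s, t⁆ = (t * s * ((t * s)⁻¹ * k * (t * s)) * (t * s)⁻¹) * ⁅s, t⁆ := by group
    _ = _ := by rw [← h2, commutatorElement_def]; group

/-- the data around `W = Ω₂(Z)` -/
structure WS (a : MulAut X) (V W : Subgroup X) : Prop where
  vs : VS a V
  chr : W.Characteristic
  comm : ∀ a ∈ W, ∀ b ∈ W, a * b = b * a
  sqV : ∀ w ∈ W, w * w ∈ V
  memV : ∀ w ∈ W, w * w = 1 → w ∈ V

namespace WS
variable {a : MulAut X} {V W : Subgroup X} (h : WS a V W)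
include h

theorem FV (x : X) {w : X} (hw : w ∈ W) : ⁅x, w⁆ ∈ V := by
  have := h.chr
  have h1 : x * w * x⁻¹ ∈ W := (inferInstance : W.Normal).conj_mem w hw x
  refine h.memV _ (mul_mem h1 (inv_mem hw)) ?_
  rw [commutatorElement_def, (show Commute w⁻¹ (x * w * x⁻¹) from
    h.comm _ (inv_mem hw) _ h1).mul_mul_mul_comm]
  calc x * w * x⁻¹ * (x * w * x⁻¹) * (w⁻¹ * w⁻¹) = x * (w * w) * x⁻¹ * (w⁻¹ * w⁻¹) := by group
    _ = 1 := by rw [h.vs.cen _ (h.sqV w hw)]; group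

theorem Fl (x y : X) {w : X} (hw : w ∈ W) : ⁅x * y, w⁆ = ⁅x, w⁆ * ⁅y, w⁆ := by
  calc ⁅x * y, w⁆ = x * ⁅y, w⁆ * x⁻¹ * ⁅x, w⁆ := by simp only [commutatorElement_def]; group
    _ = _ := by rw [h.vs.cen _ (h.FV y hw) x, h.vs.cen _ (h.FV y hw)]; group

theorem Fr (x w : X) {w' : X} (hw : w' ∈ W) : ⁅x, w * w'⁆ = ⁅x, w⁆ * ⁅x, w'⁆ := by
  calc ⁅x, w * w'⁆ = ⁅x, w⁆ * (w * ⁅x, w'⁆) * w⁻¹ := by simp only [commutatorElement_def]; group
    _ = _ := by rw [h.vs.cen _ (h.FV x hw) w]; group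

theorem Fsq (x : X) {w w' : X} (hw : w ∈ W) (hw' : w' ∈ W) (e : w' * w' = w * w) :
    ⁅x, w'⁆ = ⁅x, w⁆ := by
  have h1 : w⁻¹ * w' ∈ V := h.memV _ (mul_mem (inv_mem hw) hw') (by
    rw [(show Commute w' w⁻¹ from h.comm _ hw' _ (inv_mem hw)).mul_mul_mul_comm, e]; group)
  rw [show w' = w * (w⁻¹ * w') by group, h.Fr _ _ (mul_mem (inv_mem hw) hw'),
    commutatorElement_eq_one_iff_mul_comm.2 (h.vs.cen _ h1 x), mul_one]

theorem L1 {ψ : MulAut X} (hψ : ∀ v ∈ V, ψ v = v) (x : X) {w : X} (hw : w ∈ W) :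
    ⁅ψ x, w⁆ = ⁅x, w⁆ := by
  have h1 : ψ⁻¹ w ∈ W := chr_app h.chr _ hw
  have h2 : ψ (ψ⁻¹ w) = w := MulAut.apply_inv_self _ _ _
  conv_lhs => rw [← h2, ← map_commutatorElement, hψ _ (h.FV x h1)]
  refine h.Fsq x hw h1 (ψ.injective ?_)
  rw [map_mul, h2, hψ _ (h.sqV w hw)]

theorem G1 {A : Subgroup (MulAut X)} (hA : ∀ a ∈ A, Odd (orderOf a)) (ha : a ∈ A)
    (hXA : closure {g : X | ∃ φ ∈ A, ∃ x : X, g = x⁻¹ * φ x} = ⊤) (x : X) {w : X} (hw : w ∈ W) :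
    ⁅x, w⁆ * ⁅a x, w⁆ * ⁅a (a x), w⁆ = 1 := by
  have c : ∀ x y : X, Commute y ⁅x, w⁆ := fun x y => h.vs.cen _ (h.FV x hw) y
  let g : X →* X := MonoidHom.mk' (fun x => ⁅x, w⁆ * ⁅a x, w⁆ * ⁅a (a x), w⁆) fun x y => by
    simp only [map_mul, h.Fl _ _ hw]
    rw [(c _ _).mul_mul_mul_comm ⁅x, w⁆, (c _ _).mul_mul_mul_comm (⁅x, w⁆ * ⁅a x, w⁆)]
  have g1 : ∀ x, g (a x) = g x := fun x => by
    change ⁅a x, w⁆ * ⁅a (a x), w⁆ * ⁅(a * a * a) x, w⁆ = ⁅x, w⁆ * ⁅a x, w⁆ * ⁅a (a x), w⁆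
    rw [h.L1 (ψ := a * a * a) h.vs.a3 x hw, (c x _).eq, mul_assoc]
  have cj : ∀ ψ : MulAut X, (∀ v ∈ V, ψ v = v) → ∀ χ : MulAut X, ∀ x, ⁅χ (ψ x), w⁆ = ⁅χ x, w⁆ :=
    fun ψ hψ χ x => by
      rw [← h.L1 (ψ := χ * ψ * χ⁻¹) (fun v hv => by
        rw [MulAut.mul_apply, MulAut.mul_apply, hψ _ (chr_app h.vs.chr _ hv), MulAut.apply_inv_self])
        (χ x) hw, MulAut.mul_apply, MulAut.mul_apply, MulAut.inv_apply_self]
  have g2 : ∀ ψ : MulAut X, (∀ v ∈ V, ψ v = v) → ∀ x, g (ψ x) = g x := fun ψ hψ x => by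
    change ⁅ψ x, w⁆ * ⁅a (ψ x), w⁆ * ⁅(a * a) (ψ x), w⁆ = ⁅x, w⁆ * ⁅a x, w⁆ * ⁅(a * a) x, w⁆
    rw [h.L1 hψ x hw, cj ψ hψ, cj ψ hψ]
  obtain ⟨s, hs, -, -, s1, -⟩ := exists_two (U := V) (by rw [h.vs.card]; norm_num)
  have g3 : ∀ ψ ∈ A, ψ s = s → ∀ x, g (ψ x) = g x := fun ψ hψ e => g2 ψ
    (triv h.vs.card.le (fun a _ b hb => h.vs.cen b hb a) h.vs.sq (hA ψ hψ)
      (fun w hw => chr_app h.vs.chr _ hw) hs s1 e)
  have g4 : ∀ φ ∈ A, ∀ x, g (φ x) = g x := fun φ hφ x => by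
    rcases h.vs.enum s hs s1 _ (chr_app h.vs.chr φ hs) with e | e | e | e
    · exact absurd ((map_eq_one_iff _ φ.injective).1 e) s1
    · exact g3 φ hφ e x
    · rw [← g3 (a⁻¹ * φ) (mul_mem (inv_mem ha) hφ) (by
        rw [MulAut.mul_apply, e, MulAut.inv_apply_self]) x, ← g1 ((a⁻¹ * φ) x), MulAut.mul_apply,
        MulAut.apply_inv_self]
    · rw [← g3 (a⁻¹ * (a⁻¹ * φ)) (mul_mem (inv_mem ha) (mul_mem (inv_mem ha) hφ)) (by
        rw [MulAut.mul_apply, MulAut.mul_apply, e, ← h.vs.aa s hs s1, MulAut.inv_apply_self,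
          MulAut.inv_apply_self]) x, ← g1 ((a⁻¹ * (a⁻¹ * φ)) x), ← g1 (a _), MulAut.mul_apply,
        MulAut.apply_inv_self, MulAut.mul_apply, MulAut.apply_inv_self]
  have : (⊤ : Subgroup X) ≤ g.ker := by
    rw [← hXA, closure_le]
    rintro _ ⟨φ, hφ, x, rfl⟩
    change g _ = 1
    rw [map_mul, map_inv, g4 φ hφ, inv_mul_cancel]
  exact this (mem_top x)

theorem sq_mul_a {w : X} (hw : w ∈ W) : w * a w * (w * a w) = w * w * a (w * w) := by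
  rw [(show Commute (a w) w from h.comm _ (chr_app h.chr a hw) _ hw).mul_mul_mul_comm, map_mul]

theorem anti (hG : ∀ x : X, ∀ w ∈ W, ⁅x, w⁆ * ⁅a x, w⁆ * ⁅a (a x), w⁆ = 1) {x w : X} (hw : w ∈ W)
    (w1 : w * w ≠ 1) (e : ⁅x, w⁆ = 1) : x ∈ centralizer (W : Set X) := by
  have aw := chr_app h.chr a hw
  have aaw := chr_app h.chr a aw
  have aaaw := chr_app h.chr a aaw
  have e3 : ∀ y : X, ⁅y, a (a (a w))⁆ = ⁅y, w⁆ := fun y => h.Fsq y hw aaaw (by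
    rw [← map_mul, ← map_mul, ← map_mul, h.vs.a3 _ (h.sqV w hw)])
  have e2 : ⁅x, a (a w)⁆ = ⁅x, a w⁆ := by
    rw [h.Fsq x (mul_mem hw aw) aaw (by
      rw [← map_mul, ← map_mul, h.vs.aa _ (h.sqV w hw) w1, h.sq_mul_a hw]), h.Fr _ _ aw, e, one_mul]
  have u1 : ⁅x, a w⁆ = 1 := by
    by_contra hn
    have hu := h.FV x aw
    have := hG x w hw
    rw [e, one_mul, ← e3, ← e3 (a (a x)), ← map_commutatorElement, e2, ← map_commutatorElement,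
      ← map_commutatorElement, h.vs.aa _ hu hn, ← mul_assoc, h.vs.cen _ hu, mul_assoc,
      h.vs.sq _ (chr_app h.vs.chr a hu), mul_one] at this
    exact hn this
  intro w' hw'
  refine (commutatorElement_eq_one_iff_mul_comm.1 ?_).symm
  rcases h.vs.enum _ (h.sqV w hw) w1 _ (h.sqV w' hw') with e' | e' | e' | e'
  · rw [h.Fsq x (one_mem W) hw' (by rw [e', one_mul]), commutatorElement_one_right]
  · rw [h.Fsq x hw hw' e', e]
  · rw [h.Fsq x aw hw' (by rw [e', map_mul]), u1]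
  · rw [h.Fsq x (mul_mem hw aw) hw' (by rw [e', h.sq_mul_a hw]), h.Fr _ _ aw, e, u1, one_mul]

theorem sqW {w0 : X} (hw : w0 ∈ W) (w1 : w0 * w0 ≠ 1) {v : X} (hv : v ∈ V) : ∃ w ∈ W, w * w = v := by
  have aw := chr_app h.chr a hw
  rcases h.vs.enum _ (h.sqV _ hw) w1 v hv with e | e | e | e
  · exact ⟨1, one_mem _, by rw [e, one_mul]⟩
  · exact ⟨w0, hw, e.symm⟩
  · exact ⟨a w0, aw, by rw [e, map_mul]⟩
  · exact ⟨w0 * a w0, mul_mem hw aw, by rw [e, h.sq_mul_a hw]⟩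

end WS

end Cfsg.Agent.Scn
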